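import Groth.Prelude.Def_RedSub
import Groth.Agent.GrpdLib.GrpOver
import Mathlib.AlgebraicGeometry.Morphisms.FlatDescent

/-!
# fppf quotients in `Over S`: lifting of points, descent of morphisms and of group laws
-/

set_option autoImplicit false

universe u

open CategoryTheory MonoidalCategory CartesianMonoidalCategory MonObj GrpObj AlgebraicGeometry
  Limits
open Groth.Agent.GrpScheme.Basic

namespace Groth.Agent.AGFQuot.Basic

variable {S : Scheme.{u}}

/-- An fppf covering morphism in `Over S`. -/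
structure IsCover {A B : Over S} (f : A ⟶ B) : Prop where
  surj : Surjective f.left
  flat : Flat f.left
  lfp : LocallyOfFinitePresentation f.left

theorem IsCover.of_isQuotient {H G Q : Over S} [GrpObj H] [GrpObj G] {i : H ⟶ G} {q : G ⟶ Q}
    (h : RedSub.IsQuotient i q) : IsCover q :=
  ⟨h.1, h.2.1, h.2.2.1⟩

theorem IsCover.effectiveEpi {A B : Over S} {f : A ⟶ B} (h : IsCover f) : EffectiveEpi f.left := by
  have := h.surj; have := h.flat; have := h.lfp; infer_instance

theorem IsCover.cancel {A B C : Over S} {f : A ⟶ B} (h : IsCover f) {a b : B ⟶ C}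
    (e : f ≫ a = f ≫ b) : a = b :=
  have := h.effectiveEpi
  GrpdLib.GrpOver.cancel_left f e

theorem IsCover.comp {A B C : Over S} {f : A ⟶ B} {g : B ⟶ C} (hf : IsCover f) (hg : IsCover g) :
    IsCover (f ≫ g) := by
  have := hf.surj; have := hf.flat; have := hf.lfp
  have := hg.surj; have := hg.flat; have := hg.lfp
  exact ⟨inferInstanceAs (Surjective (f.left ≫ g.left)), inferInstanceAs (Flat (f.left ≫ g.left)),
    inferInstanceAs (LocallyOfFinitePresentation (f.left ≫ g.left))⟩

theorem IsCover.whiskerRight {A B : Over S} {f : A ⟶ B} (h : IsCover f) (R : Over S) :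
    IsCover (f ▷ R) :=
  ⟨whiskerRight_mem @Surjective f R h.surj, whiskerRight_mem @Flat f R h.flat,
    whiskerRight_mem @LocallyOfFinitePresentation f R h.lfp⟩

theorem IsCover.whiskerLeft {A B : Over S} {f : A ⟶ B} (h : IsCover f) (R : Over S) :
    IsCover (R ◁ f) :=
  ⟨whiskerLeft_mem @Surjective f R h.surj, whiskerLeft_mem @Flat f R h.flat,
    whiskerLeft_mem @LocallyOfFinitePresentation f R h.lfp⟩

theorem IsCover.tensor {A B A' B' : Over S} {f : A ⟶ B} {f' : A' ⟶ B'} (h : IsCover f)
    (h' : IsCover f') : IsCover (f ⊗ₘ f') := by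
  rw [MonoidalCategory.tensorHom_def]
  exact (h.whiskerRight A').comp (h'.whiskerLeft B)

/-- A point lifts along an fppf covering after an fppf covering of the test object. -/
theorem IsCover.exists_lift {G Q T : Over S} {q : G ⟶ Q} (h : IsCover q) (t : T ⟶ Q) :
    ∃ (T' : Over S) (c : T' ⟶ T) (g : T' ⟶ G), IsCover c ∧ g ≫ q = c ≫ t := by
  have := h.surj; have := h.flat; have := h.lfp
  refine ⟨Over.mk (pullback.fst t.left q.left ≫ T.hom), Over.homMk (pullback.fst _ _) rfl,
    Over.homMk (pullback.snd _ _) ?_, ⟨?_, ?_, ?_⟩, ?_⟩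
  · change pullback.snd t.left q.left ≫ G.hom = pullback.fst t.left q.left ≫ T.hom
    rw [← Over.w q, ← pullback.condition_assoc, Over.w t]
  · exact inferInstanceAs (Surjective (pullback.fst t.left q.left))
  · exact inferInstanceAs (Flat (pullback.fst t.left q.left))
  · exact inferInstanceAs (LocallyOfFinitePresentation (pullback.fst t.left q.left))
  · exact Over.OverMorphism.ext (pullback.condition (f := t.left) (g := q.left)).symm

section Quotient

variable {H G : Over S} [GrpObj H] [GrpObj G] {i : H ⟶ G} {Q : Over S} {q : G ⟶ Q}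

theorem comp_eq_iff (hq : IsPullback (fst G H) ((G ◁ i) ≫ μ[G]) q q) {T : Over S} (a b : T ⟶ G) :
    a ≫ q = b ≫ q ↔ ∃ h : T ⟶ H, a * (h ≫ i) = b := by
  constructor
  · intro e
    refine ⟨hq.lift a b e ≫ snd G H, ?_⟩
    conv_rhs => rw [← hq.lift_snd a b e, ← lift_comp_fst_snd (hq.lift a b e), hq.lift_fst]
    rw [lift_whiskerLeft_assoc]
    rfl
  · rintro ⟨h, rfl⟩
    have := lift a h ≫= hq.w
    rw [lift_fst_assoc, Category.assoc, lift_whiskerLeft_assoc] at this
    exact this

/-- A morphism out of `G` constant on the cosets of `H` descends uniquely to the quotient. -/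
theorem existsUnique_desc {K : Over S} (hc : IsCover q)
    (hq : IsPullback (fst G H) ((G ◁ i) ≫ μ[G]) q q) (φ : G ⟶ K)
    (hφ : ∀ (T : Over S) (a : T ⟶ G) (h : T ⟶ H), (a * (h ≫ i)) ≫ φ = a ≫ φ) :
    ∃! g : Q ⟶ K, q ≫ g = φ := by
  have := hc.effectiveEpi
  refine GrpdLib.GrpOver.existsUnique_desc q φ fun T a b e => ?_
  obtain ⟨h, rfl⟩ := (comp_eq_iff hq a b).mp e
  rw [hφ]

end Quotient

theorem orbitMap_comp {G X T : Over S} [GrpObj G] (a : AlgGrp.Action G X) (o : 𝟙_ (Over S) ⟶ X)
    (g : T ⟶ G) : g ≫ a.orbitMap o = smul a g (toUnit T ≫ o) := by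
  simp [AlgGrp.Action.orbitMap, smul, comp_lift_assoc]

end Groth.Agent.AGFQuot.Basic
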